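import Groth.Agent.SchDom.Descent
import Mathlib

/-! Étale multisections are schematically dense in flat schemes over smooth schemes. -/

set_option autoImplicit false
set_option backward.isDefEq.respectTransparency false

universe u

open TensorProduct CategoryTheory AlgebraicGeometry Limits

namespace Groth.Agent.SchDom

theorem eq_zero_of_slices_scheme {S S' B' : Scheme.{u}} (g : S' ⟶ S) [Smooth g]
    (q : B' ⟶ S') [Flat q] [LocallyOfFinitePresentation q] (V : B'.Opens) (t : Γ(B', V))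
    (h : ∀ (Z : Scheme.{u}) (j : Z ⟶ S'), IsImmersion j → Etale (j ≫ g) →
      (pullback.snd j q).app V t = 0) : t = 0 := by
  have key : ∀ b : V, ∃ V' : B'.Opens, b.1 ∈ V' ∧ ∃ le : V' ≤ V, B'.presheaf.map (homOfLE le).op t = 0 := by
    rintro ⟨b, hb⟩
    obtain ⟨U, hU, hbU, -⟩ := exists_isAffineOpen_mem_and_subset (x := g (q b)) (U := ⊤) trivial
    obtain ⟨U', hU', hbU', hU'U⟩ := exists_isAffineOpen_mem_and_subset (x := q b) (U := g ⁻¹ᵁ U) hbU
    obtain ⟨V', hV', hbV', hV'U⟩ := exists_isAffineOpen_mem_and_subset (x := b) (U := V ⊓ q ⁻¹ᵁ U') ⟨hb, hbU'⟩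
    have le : V' ≤ V := fun x hx => (hV'U hx).1
    have le' : V' ≤ q ⁻¹ᵁ U' := fun x hx => (hV'U hx).2
    refine ⟨V', hbV', le, ?_⟩
    letI : Algebra Γ(S, U) Γ(S', U') := (g.appLE U U' hU'U).hom.toAlgebra
    haveI : Algebra.Smooth Γ(S, U) Γ(S', U') := RingHom.smooth_algebraMap.mp
      (HasRingHomProperty.appLE (P := @Smooth) g inferInstance ⟨U, hU⟩ ⟨U', hU'⟩ hU'U)
    letI : Algebra Γ(S', U') Γ(B', V') := (q.appLE U' V' le').hom.toAlgebra
    haveI : Algebra.FinitePresentation Γ(S', U') Γ(B', V') := RingHom.finitePresentation_algebraMap.mp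
      (HasRingHomProperty.appLE (P := @LocallyOfFinitePresentation) q inferInstance ⟨U', hU'⟩ ⟨V', hV'⟩ le')
    haveI : Module.Flat Γ(S', U') Γ(B', V') := RingHom.flat_algebraMap_iff.mp
      (HasRingHomProperty.appLE (P := @Flat) q inferInstance ⟨U', hU'⟩ ⟨V', hV'⟩ le')
    refine eq_zero_of_slices (R := Γ(S, U)) (B := Γ(S', U')) _ fun W _ _ _ _ het him => ?_
    let k : Spec (CommRingCat.of (W ⊗[Γ(S', U')] Γ(B', V'))) ⟶ B' :=
      Spec.map (CommRingCat.ofHom (Algebra.TensorProduct.includeRight : Γ(B', V') →ₐ[Γ(S', U')] W ⊗[Γ(S', U')] Γ(B', V')).toRingHom) ≫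
        hV'.fromSpec
    let j : Spec (CommRingCat.of W) ⟶ S' :=
      Spec.map (CommRingCat.ofHom (algebraMap Γ(S', U') W)) ≫ hU'.fromSpec
    haveI := him
    haveI hj : IsImmersion j := inferInstance
    haveI hje : Etale (j ≫ g) := by
      have h1 : j ≫ g = Spec.map (CommRingCat.ofHom (algebraMap Γ(S, U) W)) ≫ hU.fromSpec := by
        simp only [j, Category.assoc]
        rw [← IsAffineOpen.SpecMap_appLE_fromSpec g hU hU' hU'U, ← Spec.map_comp_assoc,
          IsScalarTower.algebraMap_eq Γ(S, U) Γ(S', U') W]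
        congr 2
      haveI : Etale (Spec.map (CommRingCat.ofHom (algebraMap Γ(S, U) W))) := by
        rw [HasRingHomProperty.Spec_iff (P := @Etale)]
        exact RingHom.etale_algebraMap.2 het
      rw [h1]; infer_instance
    let a : Spec (CommRingCat.of (W ⊗[Γ(S', U')] Γ(B', V'))) ⟶ Spec (CommRingCat.of W) :=
      Spec.map (CommRingCat.ofHom (algebraMap W (W ⊗[Γ(S', U')] Γ(B', V'))))
    have w : a ≫ j = k ≫ q := by
      simp only [a, j, k, Category.assoc]
      rw [← IsAffineOpen.SpecMap_appLE_fromSpec q hU' hV' le', ← Spec.map_comp_assoc, ← Spec.map_comp_assoc]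
      congr 2
      refine CommRingCat.hom_ext (RingHom.ext fun x => ?_)
      exact ((Algebra.TensorProduct.includeRight : Γ(B', V') →ₐ[Γ(S', U')] W ⊗[Γ(S', U')] Γ(B', V')).commutes x).symm.trans rfl
    let l := pullback.lift a k w
    have hk : k.app V t = 0 := by
      have : k = l ≫ pullback.snd j q := (pullback.lift_snd a k w).symm
      rw [this, Scheme.Hom.comp_app]
      show l.app _ ((pullback.snd j q).app V t) = 0
      rw [h _ j hj hje, map_zero]
    have hk' : k.appLE V' ⊤ (by rw [show k ⁻¹ᵁ V' = ⊤ from by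
        simp [k, Scheme.Hom.comp_preimage, hV'.fromSpec_preimage_self]]) (B'.presheaf.map (homOfLE le).op t) = 0 := by
      rw [← CommRingCat.comp_apply, Scheme.Hom.map_appLE, Scheme.Hom.appLE]
      show (Spec (CommRingCat.of (W ⊗[Γ(S', U')] Γ(B', V')))).presheaf.map _ (k.app V t) = 0
      rw [hk, map_zero]
    have hk2 : k.appLE V' ⊤ (by rw [show k ⁻¹ᵁ V' = ⊤ from by
        simp [k, Scheme.Hom.comp_preimage, hV'.fromSpec_preimage_self]]) =
        CommRingCat.ofHom (Algebra.TensorProduct.includeRight : Γ(B', V') →ₐ[Γ(S', U')] W ⊗[Γ(S', U')] Γ(B', V')).toRingHom ≫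
          (Scheme.ΓSpecIso (CommRingCat.of (W ⊗[Γ(S', U')] Γ(B', V')))).inv := by
      rw [Scheme.Hom.appLE]
      simp only [k, Scheme.Hom.comp_app, Category.assoc]
      rw [hV'.fromSpec_app_self, Category.assoc, Scheme.Hom.naturality_assoc, ← Functor.map_comp]
      rw [Scheme.ΓSpecIso_inv_naturality]
      congr 1
    rw [hk2] at hk'
    have h2 := congrArg (Scheme.ΓSpecIso (CommRingCat.of (W ⊗[Γ(S', U')] Γ(B', V')))).hom hk'
    rw [map_zero, CommRingCat.comp_apply, ← CommRingCat.comp_apply, Iso.inv_hom_id, CommRingCat.id_apply] at h2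
    exact h2
  choose V' hmem le hz using key
  refine TopCat.Sheaf.eq_of_locally_eq' B'.sheaf V' V (fun b => homOfLE (le b)) (fun x hx => ?_) t 0 fun b => ?_
  · exact TopologicalSpace.Opens.mem_iSup.2 ⟨⟨x, hx⟩, hmem _⟩
  · rw [map_zero]; exact hz b

end Groth.Agent.SchDom
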