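import Groth.Agent.SchDom.Fibre
import Mathlib

/-! Schematic density of the flat multisections of an algebra over a Noetherian Jacobson ring. -/

set_option autoImplicit false
set_option backward.isDefEq.respectTransparency false

universe u

open TensorProduct

namespace Groth.Agent.SchDom

variable {R C : Type u} [CommRing R] [CommRing C] [Algebra R C]

/-- Coefficients of a relation lying one step deeper in a flat algebra. -/
theorem coeff_mem_of_sum_mem {m : Ideal R} (j : ℕ) [Module.Flat R C] {N : ℕ} (a : Fin N → ↥(m ^ j))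
    (r : Fin N → (↥(m ^ j) →ₗ[R] R ⧸ m)) (hr : ∀ i l, r i (a l) = if i = l then 1 else 0)
    (hr' : ∀ i (x : ↥(m ^ j)), (x : R) ∈ m ^ (j + 1) → r i x = 0)
    (w : Fin N → C) (h : ∑ i, algebraMap R C (a i : R) * w i ∈ (m ^ (j + 1)).map (algebraMap R C)) (i : Fin N) :
    w i ∈ m.map (algebraMap R C) := by
  classical
  let μ : (↥(m ^ j) ⊗[R] C) →ₗ[R] C :=
    (TensorProduct.lid R C).toLinearMap ∘ₗ ((m ^ j).subtype.rTensor C)
  have hμ : Function.Injective μ :=
    (TensorProduct.lid R C).injective.comp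
      (Module.Flat.rTensor_preserves_injective_linearMap (m ^ j).subtype Subtype.val_injective)
  have hμ' : ∀ (x : ↥(m ^ j)) (c : C), μ (x ⊗ₜ c) = algebraMap R C (x : R) * c := fun x c => by
    simp [μ, Algebra.smul_def]
  let R' : (↥(m ^ j) ⊗[R] C) →ₗ[R] (R ⧸ m) ⊗[R] C := (r i).rTensor C
  have hle : m ^ (j + 1) ≤ m ^ j := Ideal.pow_le_pow_right (Nat.le_succ j)
  have key : ∀ x ∈ (m ^ (j + 1)).map (algebraMap R C), ∃ v, μ v = x ∧ R' v = 0 := by
    intro x hx
    rw [Ideal.map, Ideal.span] at hx
    induction hx using Submodule.span_induction with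
    | mem x hx =>
      obtain ⟨y, hy, rfl⟩ := hx
      refine ⟨⟨y, hle hy⟩ ⊗ₜ 1, by rw [hμ']; simp, ?_⟩
      simp [R', hr' i ⟨y, hle hy⟩ hy]
    | zero => exact ⟨0, map_zero _, map_zero _⟩
    | add x y _ _ hx hy =>
      obtain ⟨v, hv, hv'⟩ := hx
      obtain ⟨v', hw, hw'⟩ := hy
      exact ⟨v + v', by rw [map_add, hv, hw], by rw [map_add, hv', hw', add_zero]⟩
    | smul c x _ hx =>
      obtain ⟨v, hv, hv'⟩ := hx
      refine ⟨(LinearMap.mulLeft R c).lTensor _ v, ?_, ?_⟩
      · rw [show μ ((LinearMap.mulLeft R c).lTensor _ v) = c * μ v from LinearMap.congr_fun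
          (show μ ∘ₗ (LinearMap.mulLeft R c).lTensor _ = LinearMap.mulLeft R c ∘ₗ μ from
            TensorProduct.ext' fun y z => by simp [hμ', mul_left_comm]) v, hv, smul_eq_mul]
      · have : R' ((LinearMap.mulLeft R c).lTensor _ v) = (LinearMap.mulLeft R c).lTensor _ (R' v) := by
          simp only [R', LinearMap.rTensor, LinearMap.lTensor, ← LinearMap.comp_apply,
            ← TensorProduct.map_comp, LinearMap.comp_id, LinearMap.id_comp]
        rw [this, hv', map_zero]
  obtain ⟨v, hv, hv'⟩ := key _ h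
  have h1 : v = ∑ l, a l ⊗ₜ w l := hμ (by rw [hv, map_sum]; simp [hμ'])
  have h2 : ((1 : R ⧸ m) ⊗ₜ[R] w i : (R ⧸ m) ⊗[R] C) = 0 := by
    rw [← hv', h1, map_sum]
    simp [R', hr, ite_tmul]
  apply Ideal.Quotient.eq_zero_iff_mem.1
  apply (Algebra.TensorProduct.quotIdealMapEquivQuotTensor C m).injective
  rw [map_zero, Algebra.TensorProduct.quotIdealMapEquivQuotTensor_mk]
  exact h2

/-- Coordinates on a graded piece of the powers of a maximal ideal. -/
theorem exists_coords [IsNoetherianRing R] (m : Ideal R) [m.IsMaximal] (j : ℕ) :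
    ∃ (N : ℕ) (a : Fin N → ↥(m ^ j)) (r : Fin N → (↥(m ^ j) →ₗ[R] R ⧸ m)),
      (∀ i l, r i (a l) = if i = l then 1 else 0) ∧
      (∀ i (x : ↥(m ^ j)), (x : R) ∈ m ^ (j + 1) → r i x = 0) ∧
      ∀ x : ↥(m ^ j), ∃ b : Fin N → R, (x : R) - ∑ i, b i * (a i : R) ∈ m ^ (j + 1) := by
  classical
  letI : Field (R ⧸ m) := Ideal.Quotient.field m
  let V := (R ⧸ m) ⊗[R] ↥(m ^ j)
  let b := Module.finBasis (R ⧸ m) V
  have hsurj : ∀ v : V, ∃ x : ↥(m ^ j), (1 : R ⧸ m) ⊗ₜ[R] x = v := fun v =>
    TensorProduct.mk_surjective R _ _ Ideal.Quotient.mk_surjective v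
  choose a ha using fun i => hsurj (b i)
  let q := TensorProduct.quotTensorEquivQuotSMul ↥(m ^ j) m
  have hker : ∀ x : ↥(m ^ j), (1 : R ⧸ m) ⊗ₜ[R] x = 0 ↔ (x : R) ∈ m ^ (j + 1) := fun x => by
    rw [show ((1 : R ⧸ m) ⊗ₜ[R] x = (0 : V)) ↔ q ((1 : R ⧸ m) ⊗ₜ[R] x) = 0 from
      (LinearEquiv.map_eq_zero_iff q).symm]
    have : q ((1 : R ⧸ m) ⊗ₜ[R] x) = Submodule.Quotient.mk x := by
      simp [q]
    rw [this, Submodule.Quotient.mk_eq_zero]
    rw [show m ^ (j + 1) = Submodule.map (m ^ j).subtype (m • (⊤ : Submodule R ↥(m ^ j))) by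
      rw [Submodule.map_smul'', Submodule.map_top, Submodule.range_subtype, smul_eq_mul, pow_succ']]
    exact (Function.Injective.mem_set_image (Submodule.injective_subtype _)).symm
  refine ⟨_, a, fun i => ((b.coord i).restrictScalars R) ∘ₗ (TensorProduct.mk R (R ⧸ m) ↥(m ^ j) 1),
    fun i l => ?_, fun i x hx => ?_, fun x => ?_⟩
  · show b.repr ((1 : R ⧸ m) ⊗ₜ[R] a l) i = _
    rw [ha, b.repr_self, Finsupp.single_apply]
    simp [eq_comm]
  · show b.repr ((1 : R ⧸ m) ⊗ₜ[R] x) i = 0
    rw [(hker x).2 hx, map_zero, Finsupp.zero_apply]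
  · choose c hc using fun i => Ideal.Quotient.mk_surjective (b.repr ((1 : R ⧸ m) ⊗ₜ[R] x) i)
    refine ⟨c, ?_⟩
    have : (1 : R ⧸ m) ⊗ₜ[R] (x - ∑ i, c i • a i) = (0 : V) := by
      rw [tmul_sub, tmul_sum, sub_eq_zero]
      conv_lhs => rw [← b.sum_repr ((1 : R ⧸ m) ⊗ₜ[R] x)]
      refine Finset.sum_congr rfl fun i _ => ?_
      rw [← ha i, ← hc i, tmul_smul, ← IsScalarTower.algebraMap_smul (R ⧸ m) (c i)]
      rfl
    simpa using (hker _).1 this

/-- A section of a flat algebra of finite type over an algebra with reduced fibres which vanishes on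
flat multisections through all closed points is zero. -/
theorem eq_zero_of_multisections {R B C : Type u} [CommRing R] [CommRing B] [CommRing C] [Algebra R B]
    [Algebra B C] [Algebra R C] [IsScalarTower R B C] [IsNoetherianRing R] [IsJacobsonRing R]
    [Algebra.FiniteType R B] [Algebra.FiniteType B C] [Module.Flat B C]
    (hred : ∀ m : Ideal R, m.IsMaximal → IsReduced (B ⧸ m.map (algebraMap R B))) (t : C)
    (h : ∀ n : Ideal B, n.IsMaximal → ∃ (W : Type u) (_ : CommRing W) (_ : Algebra B W) (_ : Algebra R W)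
      (_ : IsScalarTower R B W), Module.Flat R W ∧ (∃ q : Ideal W, q.IsPrime ∧ q.comap (algebraMap B W) = n) ∧
        (1 ⊗ₜ[B] t : W ⊗[B] C) = 0) : t = 0 := by
  classical
  haveI : IsNoetherianRing B := Algebra.FiniteType.isNoetherianRing R B
  haveI : IsJacobsonRing B := isJacobsonRing_of_finiteType (A := R)
  haveI : IsNoetherianRing C := Algebra.FiniteType.isNoetherianRing B C
  haveI : IsJacobsonRing C := isJacobsonRing_of_finiteType (A := B)
  have step : ∀ (m : Ideal R), m.IsMaximal → ∀ j, t ∈ (m ^ j).map (algebraMap R C) := by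
    intro m hm j
    induction j with
    | zero => rw [pow_zero, Ideal.one_eq_top, Ideal.map_top]; trivial
    | succ j ih =>
      obtain ⟨N, a, r, hr, hr', hlift⟩ := exists_coords m j
      have hwrite : ∀ x ∈ (m ^ j).map (algebraMap R C), ∃ d : Fin N → C,
          x - ∑ i, algebraMap R C (a i : R) * d i ∈ (m ^ (j + 1)).map (algebraMap R C) := by
        intro x hx
        rw [Ideal.map, Ideal.span] at hx
        induction hx using Submodule.span_induction with
        | mem x hx =>
          obtain ⟨y, hy, rfl⟩ := hx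
          obtain ⟨b, hb⟩ := hlift ⟨y, hy⟩
          refine ⟨fun i => algebraMap R C (b i), ?_⟩
          simpa [mul_comm] using Ideal.mem_map_of_mem (algebraMap R C) hb
        | zero => exact ⟨0, by simp⟩
        | add x y _ _ hx hy =>
          obtain ⟨d, hd⟩ := hx
          obtain ⟨d', hd'⟩ := hy
          refine ⟨d + d', ?_⟩
          convert add_mem hd hd' using 1
          simp only [Pi.add_apply, mul_add, Finset.sum_add_distrib]
          ring
        | smul c x _ hx =>
          obtain ⟨d, hd⟩ := hx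
          refine ⟨c • d, ?_⟩
          convert Ideal.mul_mem_left _ c hd using 1
          simp only [Pi.smul_apply, smul_eq_mul, mul_sub, Finset.mul_sum]
          congr 1
          exact Finset.sum_congr rfl fun i _ => by ring
      obtain ⟨d, hd⟩ := hwrite t ih
      have hdi : ∀ i, d i ∈ m.map (algebraMap R C) := fun i => by
        haveI := hred m hm
        rw [IsScalarTower.algebraMap_eq R B C, ← Ideal.map_map]
        refine mem_map_of_forall_mem_map _ _ fun n hn hmn => ?_
        haveI := hn
        obtain ⟨W, _, _, _, _, hWflat, ⟨q, hq, hqn⟩, hW⟩ := h n hn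
        haveI := hq
        let inc : C →ₐ[B] W ⊗[B] C := Algebra.TensorProduct.includeRight
        have hincR : ∀ x, inc (algebraMap R C x) = algebraMap R (W ⊗[B] C) x := fun x => by
          rw [IsScalarTower.algebraMap_apply R B C, AlgHom.commutes, ← IsScalarTower.algebraMap_apply]
        haveI : Module.Flat R (W ⊗[B] C) := Module.Flat.trans R W (W ⊗[B] C)
        have hsum : ∑ l, algebraMap R (W ⊗[B] C) (a l : R) * inc (d l) ∈
            (m ^ (j + 1)).map (algebraMap R (W ⊗[B] C)) := by
          have h2 := Ideal.mem_map_of_mem inc.toRingHom hd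
          rw [Ideal.map_map, show inc.toRingHom.comp (algebraMap R C) = algebraMap R (W ⊗[B] C) from
            RingHom.ext hincR] at h2
          simp only [AlgHom.toRingHom_eq_coe, RingHom.coe_coe, map_sub, map_sum, map_mul, hincR] at h2
          rw [show inc t = 0 from hW, zero_sub] at h2
          exact neg_mem_iff.1 h2
        have h1 := coeff_mem_of_sum_mem j a r hr hr' (fun l => inc (d l)) hsum i
        let κ := q.ResidueField
        have hkerκ : RingHom.ker (algebraMap B κ) = n := by
          rw [IsScalarTower.algebraMap_eq B W κ, ← RingHom.comap_ker, Ideal.ker_algebraMap_residueField, hqn]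
        let φ : W ⊗[B] C →ₐ[B] κ ⊗[B] C :=
          Algebra.TensorProduct.map (IsScalarTower.toAlgHom B W κ) (AlgHom.id B C)
        have h3 : φ (inc (d i)) = 0 := by
          have h4 : inc (d i) ∈ (n.map (algebraMap B W)).map
              (algebraMap W (W ⊗[B] C)) := by
            rw [Ideal.map_map, ← IsScalarTower.algebraMap_eq B W (W ⊗[B] C)]
            refine Ideal.map_le_iff_le_comap.2 (fun x hx => ?_) h1
            rw [Ideal.mem_comap, IsScalarTower.algebraMap_apply R B (W ⊗[B] C)]
            exact Ideal.mem_map_of_mem _ (hmn (Ideal.mem_map_of_mem _ hx))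
          have h5 : (n.map (algebraMap B W)).map (algebraMap W (W ⊗[B] C)) ≤ RingHom.ker φ.toRingHom := by
            rw [Ideal.map_map, ← IsScalarTower.algebraMap_eq B W (W ⊗[B] C)]
            refine Ideal.map_le_iff_le_comap.2 fun x hx => ?_
            rw [Ideal.mem_comap, RingHom.mem_ker]
            show φ (algebraMap B _ x) = 0
            rw [AlgHom.commutes, Algebra.TensorProduct.algebraMap_apply,
              show algebraMap B κ x = 0 from (RingHom.mem_ker).1 (hkerκ.ge hx), zero_tmul]
          exact h5 h4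
        let ψ : B ⧸ n →ₐ[B] κ := Ideal.Quotient.liftₐ n (Algebra.ofId B κ) fun x hx => hkerκ.ge hx
        have hψ : Function.Injective ψ.toLinearMap := by
          rw [injective_iff_map_eq_zero]
          intro x hx
          obtain ⟨x, rfl⟩ := Ideal.Quotient.mk_surjective x
          exact Ideal.Quotient.eq_zero_iff_mem.2 (hkerκ.le hx)
        have h6 : ((1 : B ⧸ n) ⊗ₜ[B] d i : (B ⧸ n) ⊗[B] C) = 0 := by
          apply Module.Flat.rTensor_preserves_injective_linearMap (M := C) ψ.toLinearMap hψ
          rw [map_zero, LinearMap.rTensor_tmul]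
          simpa [φ, inc] using h3
        apply Ideal.Quotient.eq_zero_iff_mem.1
        apply (Algebra.TensorProduct.quotIdealMapEquivQuotTensor C n).injective
        rw [map_zero, Algebra.TensorProduct.quotIdealMapEquivQuotTensor_mk]
        exact h6
      have : ∑ i, algebraMap R C (a i : R) * d i ∈ (m ^ (j + 1)).map (algebraMap R C) := by
        refine Ideal.sum_mem _ fun i _ => ?_
        rw [pow_succ, Ideal.map_mul]
        exact Ideal.mul_mem_mul (Ideal.mem_map_of_mem _ (a i).2) (hdi i)
      simpa using add_mem hd this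
  by_contra ht
  have hann : Submodule.annihilator (Submodule.span C {t}) ≠ ⊤ := by
    simpa [Submodule.annihilator_eq_top_iff] using ht
  obtain ⟨q, hq, hle⟩ := Ideal.exists_le_maximal _ hann
  haveI := hq
  haveI : Algebra.FiniteType R C := Algebra.FiniteType.trans ‹Algebra.FiniteType R B› ‹_›
  letI : Field (C ⧸ q) := Ideal.Quotient.field q
  haveI : Module.Finite R (C ⧸ q) := finite_of_finite_type_of_isJacobsonRing R (C ⧸ q)
  have hm : (q.comap (algebraMap R C)).IsMaximal := by
    have := Ideal.isMaximal_comap_of_isIntegral_of_isMaximal (R := R) (S := C ⧸ q) ⊥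
    rwa [show Ideal.comap (algebraMap R (C ⧸ q)) ⊥ = q.comap (algebraMap R C) by
      rw [IsScalarTower.algebraMap_eq R C (C ⧸ q), ← Ideal.comap_comap, ← RingHom.ker_eq_comap_bot,
        Ideal.Quotient.algebraMap_eq, Ideal.mk_ker]] at this
  let L := Localization.AtPrime q
  have h0 : algebraMap C L t ∈ ⨅ j : ℕ, IsLocalRing.maximalIdeal L ^ j := by
    rw [Submodule.mem_iInf]
    intro j
    rw [← Localization.AtPrime.map_eq_maximalIdeal, ← Ideal.map_pow]
    refine Ideal.mem_map_of_mem _ ?_
    have := step _ hm j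
    rw [Ideal.map_pow] at this
    exact Ideal.pow_right_mono Ideal.map_comap_le j this
  rw [Ideal.iInf_pow_eq_bot_of_isLocalRing _ (IsLocalRing.maximalIdeal.isMaximal L).ne_top, Ideal.mem_bot] at h0
  obtain ⟨⟨s, hs⟩, hst⟩ := (IsLocalization.map_eq_zero_iff q.primeCompl L t).1 h0
  exact hs (hle (Submodule.mem_annihilator_span_singleton _ _ |>.2 hst))

end Groth.Agent.SchDom
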