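import Groth.Agent.SchDom.Slices
import Groth.Agent.FppfSource.Ring
import Mathlib

/-! Sections of flat algebras over smooth algebras are detected by étale slices. -/

set_option autoImplicit false
set_option backward.isDefEq.respectTransparency false

universe u

open TensorProduct CategoryTheory AlgebraicGeometry Limits

namespace Groth.Agent.SchDom

/-- Vanishing on the slices of an algebra gives vanishing on the slices of a model of it. -/
theorem slices_transfer {A R B' B C' C : Type u} [CommRing A] [CommRing R] [CommRing B'] [CommRing B]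
    [CommRing C'] [CommRing C] [Algebra A R] [Algebra A B'] [Algebra R B] [Algebra B' B] [Algebra A B]
    [IsScalarTower A R B] [IsScalarTower A B' B] [Algebra.IsPushout A R B' B] [Algebra B' C'] [Algebra B C]
    [Algebra C' C] [Algebra B' C] [IsScalarTower B' B C] [IsScalarTower B' C' C]
    [Algebra.IsPushout B' B C' C] [Module.Flat B' C'] (hinj : Function.Injective (algebraMap A R)) (t₀ : C')
    (h : ∀ (W : Type u) [CommRing W] [Algebra B W] [Algebra R W] [IsScalarTower R B W],
      Algebra.Etale R W → IsImmersion (Spec.map (CommRingCat.ofHom (algebraMap B W))) →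
        (1 ⊗ₜ[B] algebraMap C' C t₀ : W ⊗[B] C) = 0)
    (W₀ : Type u) [CommRing W₀] [Algebra B' W₀] [Algebra A W₀] [IsScalarTower A B' W₀]
    [Algebra.Etale A W₀] (him : IsImmersion (Spec.map (CommRingCat.ofHom (algebraMap B' W₀)))) :
    (1 ⊗ₜ[B'] t₀ : W₀ ⊗[B'] C') = 0 := by
  let W := B ⊗[B'] W₀
  let Z := W₀ ⊗[B'] C'
  let T := R ⊗[A] Z
  haveI : Module.Flat A Z := Module.Flat.trans A W₀ Z
  haveI : Algebra.IsPushout A B' R B := Algebra.IsPushout.symm ‹_›
  letI : Algebra W₀ W := Algebra.TensorProduct.rightAlgebra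
  haveI : Algebra.IsPushout B' W₀ B W := Algebra.IsPushout.symm inferInstance
  haveI : IsScalarTower A W₀ W := IsScalarTower.of_algebraMap_eq fun a => by
    rw [IsScalarTower.algebraMap_apply A B' W₀, ← IsScalarTower.algebraMap_apply B' W₀ W,
      ← IsScalarTower.algebraMap_apply A B' W]
  haveI : Algebra.IsPushout A W₀ R W := (Algebra.IsPushout.comp_iff A B' R B).2 ‹_›
  haveI : Algebra.IsPushout A R W₀ W := Algebra.IsPushout.symm ‹_›
  have het : Algebra.Etale R W := Algebra.Etale.of_equiv (Algebra.IsPushout.equiv A R W₀ W)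
  have himm : IsImmersion (Spec.map (CommRingCat.ofHom (algebraMap B W))) :=
    MorphismProperty.of_isPullback
      (isPullback_SpecMap_of_isPushout _ _ _ _ (CommRingCat.isPushout_tensorProduct B' B W₀)).flip him
  have h0 := h W het himm
  let g : B' →ₐ[A] T :=
    (Algebra.TensorProduct.includeRight : Z →ₐ[A] T).comp (IsScalarTower.toAlgHom A B' Z)
  let φ : B →ₐ[A] T := Algebra.pushoutDesc B (Algebra.TensorProduct.includeLeft : R →ₐ[A] T) g
    fun _ _ => mul_comm _ _
  letI : Algebra B T := φ.toRingHom.toAlgebra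
  letI : Algebra B' T := g.toRingHom.toAlgebra
  haveI : IsScalarTower B' B T := IsScalarTower.of_algebraMap_eq fun b =>
    (Algebra.pushoutDesc_right B _ g _ b).symm
  let gC : C' →ₐ[B'] T :=
    { ((Algebra.TensorProduct.includeRight : Z →ₐ[A] T).toRingHom.comp
        (Algebra.TensorProduct.includeRight : C' →ₐ[B'] Z).toRingHom) with
      commutes' := fun b => congrArg (Algebra.TensorProduct.includeRight : Z →ₐ[A] T)
        ((Algebra.TensorProduct.includeRight : C' →ₐ[B'] Z).commutes b) }
  let φC : C →ₐ[B'] T := Algebra.pushoutDesc C (IsScalarTower.toAlgHom B' B T) gC fun _ _ => mul_comm _ _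
  let φC' : C →ₐ[B] T := { φC.toRingHom with
    commutes' := fun b => Algebra.pushoutDesc_left C (IsScalarTower.toAlgHom B' B T) gC _ b }
  let gW : W₀ →ₐ[B'] T :=
    { ((Algebra.TensorProduct.includeRight : Z →ₐ[A] T).toRingHom.comp (algebraMap W₀ Z)) with
      commutes' := fun b => congrArg (Algebra.TensorProduct.includeRight : Z →ₐ[A] T)
        (IsScalarTower.algebraMap_apply B' W₀ Z b).symm }
  let φW : W →ₐ[B] T := Algebra.TensorProduct.lift (Algebra.ofId B T) gW fun _ _ => mul_comm _ _
  let Φ : W ⊗[B] C →ₐ[B] T := Algebra.TensorProduct.lift φW φC' fun _ _ => mul_comm _ _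
  have h1 := congrArg Φ h0
  rw [map_zero, Algebra.TensorProduct.lift_tmul, map_one, one_mul] at h1
  have h2 : φC' (algebraMap C' C t₀) = (1 : R) ⊗ₜ[A] ((1 : W₀) ⊗ₜ[B'] t₀) :=
    Algebra.pushoutDesc_right C (IsScalarTower.toAlgHom B' B T) gC _ t₀
  rw [h2] at h1
  have h3 : Function.Injective fun z : Z => (1 : R) ⊗ₜ[A] z := by
    have h4 := (Module.Flat.rTensor_preserves_injective_linearMap (M := Z) (Algebra.linearMap A R) hinj).comp
      (TensorProduct.lid A Z).symm.injective
    convert h4 using 1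
    funext z
    simp
  exact h3 (h1.trans (TensorProduct.tmul_zero Z (1 : R)).symm)

/-- An algebra isomorphic to a base change is a pushout. -/
theorem isPushout_of_tensorEquiv {R S R' T : Type u} [CommRing R] [CommRing S] [CommRing R'] [CommRing T]
    [Algebra R S] [Algebra R R'] [Algebra S T] [Algebra R' T] [Algebra R T] [IsScalarTower R S T]
    [IsScalarTower R R' T] (e : S ⊗[R] R' ≃ₐ[S] T) (he : ∀ x, e (1 ⊗ₜ[R] x) = algebraMap R' T x) :
    Algebra.IsPushout R S R' T := by
  letI : Algebra R' (S ⊗[R] R') := Algebra.TensorProduct.rightAlgebra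
  exact Algebra.IsPushout.of_equiv (R := R) (R' := S) (S := R') (S' := S ⊗[R] R') e (RingHom.ext he)

/-- A section of a flat finitely presented algebra over a smooth algebra which vanishes on all étale
slices is zero. -/
theorem eq_zero_of_slices {R B C : Type u} [CommRing R] [CommRing B] [CommRing C] [Algebra R B]
    [Algebra.Smooth R B] [Algebra B C] [Algebra.FinitePresentation B C] [Module.Flat B C] (t : C)
    (h : ∀ (W : Type u) [CommRing W] [Algebra B W] [Algebra R W] [IsScalarTower R B W],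
      Algebra.Etale R W → IsImmersion (Spec.map (CommRingCat.ofHom (algebraMap B W))) →
        (1 ⊗ₜ[B] t : W ⊗[B] C) = 0) : t = 0 := by
  classical
  obtain ⟨A₀, B₀, _, _, hA₀, _, ⟨e⟩⟩ := Algebra.Smooth.exists_subalgebra_fg ℤ R B
  obtain ⟨B₁, C₁, _, _, hB₁, _, _, ⟨e'⟩⟩ := FppfSource.exists_model_subalgebra ℤ B C
  obtain ⟨S, hS⟩ := TensorProduct.exists_finset (e' t)
  obtain ⟨gB, hgB⟩ := hB₁
  choose F hF using fun x : B => TensorProduct.exists_finset (e x)
  let G : Finset B := gB ∪ S.image Prod.fst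
  let A : Subalgebra ℤ R := A₀ ⊔ Algebra.adjoin ℤ ((G.biUnion fun x => (F x).image Prod.fst : Finset R) : Set R)
  have hA : A.FG := hA₀.sup (Subalgebra.fg_adjoin_finset _)
  haveI : Algebra.FiniteType ℤ A := (Subalgebra.fg_iff_finiteType A).1 hA
  letI : Algebra A₀ A := (Subalgebra.inclusion (le_sup_left : A₀ ≤ A)).toRingHom.toAlgebra
  haveI : IsScalarTower A₀ A R := IsScalarTower.of_algebraMap_eq fun _ => rfl
  let B' := A ⊗[A₀] B₀
  let ε : R ⊗[A] B' ≃ₐ[R] B := (Algebra.TensorProduct.cancelBaseChange A₀ A R R B₀).trans e.symm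
  let ι : B' →+* B := ε.toRingEquiv.toRingHom.comp (Algebra.TensorProduct.includeRight : B' →ₐ[A] R ⊗[A] B').toRingHom
  letI : Algebra B' B := ι.toAlgebra
  haveI : IsScalarTower A B' B := IsScalarTower.of_algebraMap_eq (R := A) (S := B') (A := B) fun a => by
    show algebraMap A B a = ε ((Algebra.TensorProduct.includeRight : B' →ₐ[A] R ⊗[A] B') (algebraMap A B' a))
    rw [AlgHom.commutes, IsScalarTower.algebraMap_apply A R (R ⊗[A] B'), AlgEquiv.commutes,
      ← IsScalarTower.algebraMap_apply A R B]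
  haveI : Algebra.IsPushout A R B' B := isPushout_of_tensorEquiv ε fun _ => rfl
  have hval : Function.Injective (algebraMap A R) := Subtype.val_injective
  have hι : Function.Injective ι := by
    refine ε.injective.comp ?_
    have h4 := (Module.Flat.rTensor_preserves_injective_linearMap (M := B') (Algebra.linearMap A R) hval).comp
      (TensorProduct.lid A B').symm.injective
    convert h4 using 1
    funext z
    simp
  have hrange : ∀ x ∈ G, x ∈ ι.range := by
    intro x hx
    have hx' : ∀ p ∈ F x, p.1 ∈ A := fun p hp => (le_sup_right : _ ≤ A)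
      (Algebra.subset_adjoin (Finset.mem_biUnion.2 ⟨x, hx, Finset.mem_image_of_mem _ hp⟩))
    refine ⟨∑ p ∈ (F x).attach, ((⟨p.1.1, hx' p.1 p.2⟩ : A) ⊗ₜ[A₀] p.1.2 : B'), ?_⟩
    apply e.injective
    conv_rhs => rw [hF x, ← Finset.sum_attach]
    simp only [ι, map_sum]
    refine Finset.sum_congr rfl fun p _ => ?_
    show e (e.symm (Algebra.TensorProduct.cancelBaseChange A₀ A R R B₀ (1 ⊗ₜ[A] (_ ⊗ₜ[A₀] _)))) = _
    rw [AlgEquiv.apply_symm_apply]
    erw [Algebra.TensorProduct.cancelBaseChange_tmul]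
    rw [Algebra.smul_def, mul_one]
    rfl
  have hle : ∀ x ∈ B₁, x ∈ ι.range := by
    intro x hx
    rw [← hgB] at hx
    induction hx using Algebra.adjoin_induction with
    | mem x hx => exact hrange x (Finset.mem_union_left _ hx)
    | algebraMap n => exact ⟨algebraMap ℤ B' n, by simp⟩
    | add x y _ _ hx hy => exact add_mem hx hy
    | mul x y _ _ hx hy => exact mul_mem hx hy
  let κ : B₁ →+* B' :=
    (RingEquiv.ofBijective ι.rangeRestrict ⟨fun a b hab => hι (congrArg Subtype.val hab), ι.rangeRestrict_surjective⟩).symm.toRingHom.comp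
      (B₁.val.toRingHom.codRestrict ι.range fun x => hle x x.2)
  have hκ : ∀ x, ι (κ x) = (x : B) := fun x => congrArg Subtype.val
    ((RingEquiv.ofBijective ι.rangeRestrict ⟨fun a b hab => hι (congrArg Subtype.val hab), ι.rangeRestrict_surjective⟩).apply_symm_apply
      (B₁.val.toRingHom.codRestrict ι.range (fun x => hle x x.2) x))
  letI : Algebra B₁ B' := κ.toAlgebra
  haveI : IsScalarTower B₁ B' B := IsScalarTower.of_algebraMap_eq fun x => (hκ x).symm
  let C' := B' ⊗[B₁] C₁
  let ε' : B ⊗[B'] C' ≃ₐ[B] C := (Algebra.TensorProduct.cancelBaseChange B₁ B' B B C₁).trans e'.symm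
  let ρ : C' →+* C := ε'.toRingEquiv.toRingHom.comp (Algebra.TensorProduct.includeRight : C' →ₐ[B'] B ⊗[B'] C').toRingHom
  letI : Algebra C' C := ρ.toAlgebra
  letI : Algebra B' C := ((algebraMap B C).comp (algebraMap B' B)).toAlgebra
  haveI : IsScalarTower B' B C := IsScalarTower.of_algebraMap_eq' rfl
  haveI : IsScalarTower B' C' C := IsScalarTower.of_algebraMap_eq (R := B') (S := C') (A := C) fun b => by
    show algebraMap B C (algebraMap B' B b) = ε' ((Algebra.TensorProduct.includeRight : C' →ₐ[B'] B ⊗[B'] C') (algebraMap B' C' b))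
    rw [AlgHom.commutes, IsScalarTower.algebraMap_apply B' B (B ⊗[B'] C'), AlgEquiv.commutes]
  haveI : Algebra.IsPushout B' B C' C := isPushout_of_tensorEquiv (R := B') (S := B) (R' := C') (T := C) ε' fun _ => rfl
  choose pre hpre using fun x : G => hrange x.1 x.2
  let t₀ : C' := ∑ p ∈ S.attach, pre ⟨p.1.1, Finset.mem_union_right _ (Finset.mem_image_of_mem _ p.2)⟩ ⊗ₜ[B₁] p.1.2
  have ht₀ : ρ t₀ = t := by
    apply e'.injective
    conv_rhs => rw [hS, ← Finset.sum_attach]
    simp only [ρ, t₀, map_sum]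
    refine Finset.sum_congr rfl fun p _ => ?_
    show e' (e'.symm (Algebra.TensorProduct.cancelBaseChange B₁ B' B B C₁ (1 ⊗ₜ[B'] (_ ⊗ₜ[B₁] _)))) = _
    rw [AlgEquiv.apply_symm_apply]
    erw [Algebra.TensorProduct.cancelBaseChange_tmul]
    rw [Algebra.smul_def, mul_one]
    exact congrArg (· ⊗ₜ[B₁] p.1.2) (hpre _)
  have h0 : t₀ = 0 := eq_zero_of_slices_fg (R := A) (B := B') t₀ fun W₀ _ _ _ _ het him => by
    haveI := het
    refine slices_transfer (R := R) (B := B) (C := C) hval t₀ (fun W _ _ _ _ h1 h2 => ?_) W₀ him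
    show (1 ⊗ₜ[B] ρ t₀ : W ⊗[B] C) = 0
    rw [ht₀]
    exact h W h1 h2
  rw [← ht₀, h0, map_zero]

end Groth.Agent.SchDom
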