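import Groth.Agent.GenFree.ReducedMain
import Mathlib

/-! Elements of flat algebras of finite type over reduced Jacobson rings which vanish at all closed points. -/

set_option autoImplicit false

universe u

open TensorProduct

namespace Groth.Agent.SchDom

variable {B C : Type u} [CommRing B] [CommRing C] [Algebra B C]

/-- An element of a free module over a reduced Jacobson ring vanishing at all maximal ideals is zero. -/
theorem eq_zero_of_free {M : Type u} [AddCommGroup M] [Module B M] [IsReduced B] [IsJacobsonRing B]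
    [Module.Free B M] (x : M) (h : ∀ n : Ideal B, n.IsMaximal → x ∈ n • (⊤ : Submodule B M)) : x = 0 := by
  classical
  let b := Module.Free.chooseBasis B M
  apply b.repr.injective
  rw [map_zero]
  ext i
  have h1 : ∀ n : Ideal B, n.IsMaximal → b.repr x i ∈ n := fun n hn => by
    refine Submodule.smul_induction_on (h n hn) (fun r hr m _ => ?_) (fun p q hp hq => ?_)
    · rw [map_smul, Finsupp.smul_apply, smul_eq_mul]
      exact Ideal.mul_mem_right _ _ hr
    · rw [map_add, Finsupp.add_apply]
      exact add_mem hp hq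
  have h2 : b.repr x i ∈ (⊥ : Ideal B).jacobson :=
    Ideal.mem_sInf.2 fun n hn => h1 n hn.2
  rw [Ideal.radical_eq_jacobson (⊥ : Ideal B) |>.symm] at h2
  obtain ⟨k, hk⟩ := h2
  exact IsReduced.eq_zero _ ⟨k, by simpa using hk⟩

/-- An element of a flat algebra of finite type over a Noetherian reduced Jacobson ring which lies in
`nC` for every maximal ideal `n` is zero. -/
theorem eq_zero_of_forall_mem_map [IsNoetherianRing B] [IsReduced B] [IsJacobsonRing B]
    [Algebra.FiniteType B C] [Module.Flat B C] (c : C)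
    (h : ∀ n : Ideal B, n.IsMaximal → c ∈ n.map (algebraMap B C)) : c = 0 := by
  classical
  let s := (minimalPrimes.finite_of_isNoetherianRing B).toFinset
  have hs : ∀ p ∈ s, ∃ f : B, f ∉ p ∧ (∀ q ∈ s, q ≠ p → f ∈ q) ∧ algebraMap B C f * c = 0 := by
    intro p hp
    have hpm : p ∈ minimalPrimes B := (Set.Finite.mem_toFinset _).1 hp
    haveI : p.IsPrime := hpm.1.1
    have hq : ∀ q : {q // q ∈ s.erase p}, ∃ x ∈ q.1, x ∉ p := fun ⟨q, hq⟩ => by
      rw [Finset.mem_erase, Set.Finite.mem_toFinset] at hq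
      by_contra hne
      push_neg at hne
      exact hq.1 (le_antisymm hne (hpm.2 hq.2.1 hne))
    choose x hxq hxp using hq
    let a := ∏ q, x q
    have hap : a ∉ p := fun ha => by
      obtain ⟨q, -, hq⟩ := (Ideal.IsPrime.prod_mem_iff).1 ha
      exact hxp q hq
    have haq : ∀ q ∈ s, q ≠ p → a ∈ q := fun q hq hne =>
      Ideal.mem_of_dvd q (Finset.dvd_prod_of_mem x (Finset.mem_univ (⟨q, Finset.mem_erase.2 ⟨hne, hq⟩⟩ : {q // q ∈ s.erase p}))) (hxq ⟨q, Finset.mem_erase.2 ⟨hne, hq⟩⟩)
    obtain ⟨f, haf, hf0, -, hfree, -, -⟩ := GenFree.generic_freeness_reduced (R := B) (S := C) (M := C)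
      (a := a) (fun h0 => hap (h0 ▸ p.zero_mem))
    obtain ⟨d, rfl⟩ := haf
    have hfp : a * d ∉ p := fun hfp => by
      have h0 : a * d ∈ nilradical B := by
        rw [nilradical, ← Ideal.sInf_minimalPrimes, Ideal.mem_sInf]
        intro q hq
        by_cases hqp : q = p
        · exact hqp ▸ hfp
        · exact Ideal.mul_mem_right _ _ (haq q ((Set.Finite.mem_toFinset _).2 hq) hqp)
      rw [nilradical_eq_zero] at h0
      exact hf0 h0
    haveI : IsReduced (Localization.Away (a * d)) := inferInstance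
    haveI : IsJacobsonRing (Localization.Away (a * d)) := isJacobsonRing_localization (a * d)
    let ι : C →ₗ[B] LocalizedModule (Submonoid.powers (a * d)) C := LocalizedModule.mkLinearMap _ _
    have hc0 : ι c = 0 := by
      refine eq_zero_of_free (B := Localization.Away (a * d)) _ fun n hn => ?_
      have hm : (n.comap (algebraMap B (Localization.Away (a * d)))).IsMaximal :=
        ((IsLocalization.isMaximal_iff_isMaximal_disjoint (Localization.Away (a * d)) (a * d) n).1 hn).1
      have hc : c ∈ (n.comap (algebraMap B (Localization.Away (a * d)))) • (⊤ : Submodule B C) := by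
        rw [Ideal.smul_top_eq_map]
        exact h _ hm
      refine Submodule.smul_induction_on hc (fun r hr m _ => ?_) (fun p q hp hq => ?_)
      · rw [map_smul, ← IsScalarTower.algebraMap_smul (Localization.Away (a * d)) r]
        exact Submodule.smul_mem_smul hr trivial
      · rw [map_add]
        exact add_mem hp hq
    obtain ⟨⟨_, k, rfl⟩, hk⟩ := (IsLocalizedModule.eq_zero_iff (Submonoid.powers (a * d)) ι).1 hc0
    refine ⟨(a * d) ^ (k + 1), fun h' => hfp (Ideal.IsPrime.mem_of_pow_mem ‹_› _ h'),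
      fun q hq hne => Ideal.pow_mem_of_mem _ (Ideal.mul_mem_right _ _ (haq q hq hne)) _ (Nat.succ_pos k), ?_⟩
    have hk' : ((a * d) ^ k) • c = 0 := hk
    rw [pow_succ', map_mul, mul_assoc, ← Algebra.smul_def ((a * d) ^ k) c, hk', mul_zero]
  choose f hf1 hf2 hf3 using hs
  let σ : B := ∑ q : {q // q ∈ s}, f q.1 q.2
  have hσc : algebraMap B C σ * c = 0 := by
    rw [map_sum, Finset.sum_mul, Finset.sum_eq_zero]
    intro q _
    exact hf3 q.1 q.2
  have hσ : ∀ p ∈ s, σ ∉ p := fun p hp hσ => by
    refine hf1 p hp ?_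
    rw [show σ = f p hp + ∑ q ∈ Finset.univ.erase (⟨p, hp⟩ : {q // q ∈ s}), f q.1 q.2 from
      (Finset.add_sum_erase _ _ (Finset.mem_univ (⟨p, hp⟩ : {q // q ∈ s}))).symm] at hσ
    refine (Ideal.add_mem_iff_left _ (Ideal.sum_mem _ fun q hq => ?_)).1 hσ
    exact hf2 q.1 q.2 p hp fun e => (Finset.mem_erase.1 hq).1 (Subtype.ext e.symm)
  have hreg : IsSMulRegular B σ := fun x y hxy => sub_eq_zero.1 <| by
    have hxy' : σ * (x - y) = 0 := by rw [mul_sub, sub_eq_zero]; exact hxy
    have h0 : x - y ∈ nilradical B := by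
      rw [nilradical, ← Ideal.sInf_minimalPrimes, Ideal.mem_sInf]
      intro q hq
      haveI : q.IsPrime := hq.1.1
      refine (Ideal.IsPrime.mem_or_mem ‹_› (hxy' ▸ q.zero_mem : σ * (x - y) ∈ q)).resolve_left ?_
      exact hσ q ((Set.Finite.mem_toFinset _).2 hq)
    rw [nilradical_eq_zero] at h0
    exact h0
  exact (hreg.of_flat (S := C) : IsSMulRegular C (algebraMap B C σ)) (show algebraMap B C σ • c = algebraMap B C σ • 0 by
    rw [smul_eq_mul, hσc, smul_zero])

/-- An element of a flat algebra of finite type which lies in `nC` for the maximal ideals `n` above an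
ideal `J` with reduced quotient lies in `JC`. -/
theorem mem_map_of_forall_mem_map [IsNoetherianRing B] [IsJacobsonRing B]
    [Algebra.FiniteType B C] [Module.Flat B C] (J : Ideal B) [IsReduced (B ⧸ J)] (c : C)
    (h : ∀ n : Ideal B, n.IsMaximal → J ≤ n → c ∈ n.map (algebraMap B C)) : c ∈ J.map (algebraMap B C) := by
  have h0 : (1 ⊗ₜ[B] c : (B ⧸ J) ⊗[B] C) = 0 := by
    refine eq_zero_of_forall_mem_map (B := B ⧸ J) _ fun n hn => ?_
    haveI := hn
    have hm : (n.comap (Ideal.Quotient.mk J)).IsMaximal :=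
      Ideal.comap_isMaximal_of_surjective _ Ideal.Quotient.mk_surjective
    have hc := h _ hm (fun x hx => by
      rw [Ideal.mem_comap, Ideal.Quotient.eq_zero_iff_mem.2 hx]; exact n.zero_mem)
    have hmap : (n.comap (Ideal.Quotient.mk J)).map (algebraMap B C) ≤
        (n.map (algebraMap (B ⧸ J) ((B ⧸ J) ⊗[B] C))).comap
          (Algebra.TensorProduct.includeRight : C →ₐ[B] (B ⧸ J) ⊗[B] C) := by
      refine Ideal.map_le_iff_le_comap.2 fun x hx => ?_
      rw [Ideal.mem_comap, Ideal.mem_comap, AlgHom.commutes,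
        IsScalarTower.algebraMap_apply B (B ⧸ J) ((B ⧸ J) ⊗[B] C)]
      exact Ideal.mem_map_of_mem _ hx
    exact hmap hc
  have h1 : (Ideal.Quotient.mk (J.map (algebraMap B C)) c) = 0 := by
    apply (Algebra.TensorProduct.quotIdealMapEquivQuotTensor C J).injective
    rw [map_zero, Algebra.TensorProduct.quotIdealMapEquivQuotTensor_mk]
    exact h0
  exact Ideal.Quotient.eq_zero_iff_mem.1 h1

end Groth.Agent.SchDom
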