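import Groth.Agent.SchDom.Core
import Groth.Agent.RG.Dev.EtaleSlice
import Groth.Agent.MultT.Dense
import Groth.Agent.SmoothRed.Basic
import Mathlib

/-! Étale slices through the closed points of smooth algebras of finite type over the integers. -/

set_option autoImplicit false
set_option backward.isDefEq.respectTransparency false

universe u

open TensorProduct CategoryTheory AlgebraicGeometry

namespace Groth.Agent.SchDom

variable {R B : Type u} [CommRing R] [CommRing B] [Algebra R B] [Algebra.Smooth R B]

/-- A smooth algebra over a ring of finite type over the integers has an étale slice through every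
maximal ideal. -/
theorem exists_slice [Algebra.FiniteType ℤ R] (n : Ideal B) [hn : n.IsMaximal] :
    ∃ (W : Type u) (_ : CommRing W) (_ : Algebra B W) (_ : Algebra R W) (_ : IsScalarTower R B W),
      Algebra.Etale R W ∧ IsImmersion (Spec.map (CommRingCat.ofHom (algebraMap B W))) ∧
      ∃ q : Ideal W, q.IsPrime ∧ q.comap (algebraMap B W) = n := by
  classical
  haveI : Algebra.FiniteType R B := inferInstance
  haveI : Algebra.FiniteType ℤ B := Algebra.FiniteType.trans ‹Algebra.FiniteType ℤ R› ‹_›
  haveI : Finite (B ⧸ n) := by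
    refine MultT.finite_quot (RingHom.finiteType_algebraMap.2 ‹Algebra.FiniteType ℤ B›) n
  let f : Spec (CommRingCat.of B) ⟶ Spec (CommRingCat.of R) := Spec.map (CommRingCat.ofHom (algebraMap R B))
  haveI : Smooth f := by
    rw [HasRingHomProperty.Spec_iff (P := @Smooth)]
    exact RingHom.smooth_algebraMap.2 ‹_›
  let x : ↥(Spec (CommRingCat.of B)) := (⟨n, hn.isPrime⟩ : PrimeSpectrum B)
  haveI : Finite ((Spec (CommRingCat.of B)).residueField x) := by
    have e : B ⧸ n ≃+* n.ResidueField :=
      RingEquiv.ofBijective _ (Ideal.bijective_algebraMap_quotient_residueField n)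
    exact Finite.of_equiv _ (e.trans
      (Scheme.Spec.residueFieldIso (CommRingCat.of B) x).symm.commRingCatIsoToRingEquiv).toEquiv
  letI := (f.residueFieldMap x).hom.toAlgebra
  haveI : Finite ((Spec (CommRingCat.of R)).residueField (f x)) :=
    Finite.of_injective _ (f.residueFieldMap x).hom.injective
  haveI : Algebra.IsSeparable ((Spec (CommRingCat.of R)).residueField (f x))
      ((Spec (CommRingCat.of B)).residueField x) := Algebra.IsAlgebraic.isSeparable_of_perfectField
  obtain ⟨Z, i, z, hi, hie, hz, -⟩ := RGDev.exists_etale_slice f x ‹_›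
  haveI := hi
  haveI := hie
  obtain ⟨U, hU, hzU, -⟩ := exists_isAffineOpen_mem_and_subset (x := z) (U := ⊤) trivial
  let ψ : CommRingCat.of B ⟶ Γ(Z, U) := Spec.preimage (hU.fromSpec ≫ i)
  have hψ : Spec.map ψ = hU.fromSpec ≫ i := Spec.map_preimage _
  letI : Algebra B Γ(Z, U) := ψ.hom.toAlgebra
  letI : Algebra R Γ(Z, U) := (ψ.hom.comp (algebraMap R B)).toAlgebra
  haveI : IsScalarTower R B Γ(Z, U) := IsScalarTower.of_algebraMap_eq' rfl
  haveI him : IsImmersion (Spec.map ψ) := by rw [hψ]; infer_instance
  refine ⟨Γ(Z, U), inferInstance, inferInstance, inferInstance, inferInstance, ?_, ?_, ?_⟩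
  · have h1 : Etale (Spec.map (CommRingCat.ofHom (ψ.hom.comp (algebraMap R B)))) := by
      rw [show Spec.map (CommRingCat.ofHom (ψ.hom.comp (algebraMap R B))) = hU.fromSpec ≫ (i ≫ f) by
        rw [CommRingCat.ofHom_comp, Spec.map_comp, CommRingCat.ofHom_hom, hψ, Category.assoc]]
      infer_instance
    exact RingHom.etale_algebraMap.1 ((HasRingHomProperty.Spec_iff (P := @Etale)).1 h1)
  · exact him
  · refine ⟨(hU.primeIdealOf ⟨z, hzU⟩).asIdeal, inferInstance, ?_⟩
    have h2 : Spec.map ψ (hU.primeIdealOf ⟨z, hzU⟩) = x := by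
      rw [hψ, Scheme.Hom.comp_apply, hU.fromSpec_primeIdealOf]
      exact hz
    exact congrArg PrimeSpectrum.asIdeal h2

/-- Over a ring of finite type over the integers, a section of a flat algebra over a smooth algebra
which vanishes on all étale slices is zero. -/
theorem eq_zero_of_slices_fg [Algebra.FiniteType ℤ R] {C : Type u} [CommRing C] [Algebra B C]
    [Algebra.FiniteType B C] [Module.Flat B C] (t : C)
    (h : ∀ (W : Type u) [CommRing W] [Algebra B W] [Algebra R W] [IsScalarTower R B W],
      Algebra.Etale R W → IsImmersion (Spec.map (CommRingCat.ofHom (algebraMap B W))) →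
        (1 ⊗ₜ[B] t : W ⊗[B] C) = 0) : t = 0 := by
  classical
  letI : Algebra R C := ((algebraMap B C).comp (algebraMap R B)).toAlgebra
  haveI : IsScalarTower R B C := IsScalarTower.of_algebraMap_eq' rfl
  haveI := MultT.isJacobsonRing_int
  haveI : IsNoetherianRing R := Algebra.FiniteType.isNoetherianRing ℤ R
  haveI : IsJacobsonRing R := isJacobsonRing_of_finiteType (A := ℤ)
  haveI : Algebra.FiniteType R B := inferInstance
  refine eq_zero_of_multisections (R := R) (B := B) (fun m hm => ?_) t fun n hn => ?_
  · haveI := hm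
    letI : Field (R ⧸ m) := Ideal.Quotient.field m
    haveI := SmoothRed.isReduced_of_field (R ⧸ m) ((R ⧸ m) ⊗[R] B)
    exact isReduced_of_injective (Algebra.TensorProduct.quotIdealMapEquivQuotTensor B m).toRingHom
      (Algebra.TensorProduct.quotIdealMapEquivQuotTensor B m).injective
  · haveI := hn
    obtain ⟨W, _, _, _, _, het, him, hq⟩ := exists_slice (R := R) n
    haveI := het
    exact ⟨W, inferInstance, inferInstance, inferInstance, inferInstance, inferInstance, hq, h W het him⟩

end Groth.Agent.SchDom
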